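import Cfsg.Agent.Lib.PermClasses.Weight
import Cfsg.Agent.Lib.StructB.PiClassesMul

/-!
A permutation group of degree `n` has at most `(15/4) ^ n` classes: primes are added one at a time,
the fibre over a `p`-element `x` being a permutation group on the orbits of `x`.
-/

set_option autoImplicit false
set_option linter.style.haveILetI false

namespace CfsgLib.PermClasses

open Equiv

/-- Classes of elements all of whose prime divisors are at most `t`. -/
def SClass (t : ℕ) (G : Type*) [Group G] : Type _ :=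
  {C : ConjClasses G // ∀ q : ℕ, q.Prime → (∃ g : G, ConjClasses.mk g = C ∧ q ∣ orderOf g) → q ∈ {q : ℕ | q ≤ t}}

theorem smooth_mk {t : ℕ} {G : Type*} [Group G] {g : G} (h : ∀ q : ℕ, q.Prime → q ∣ orderOf g → q ≤ t) :
    ∀ q : ℕ, q.Prime → (∃ g' : G, ConjClasses.mk g' = ConjClasses.mk g ∧ q ∣ orderOf g') → q ∈ {q : ℕ | q ≤ t} := by
  rintro q hq ⟨g', hg', hd⟩
  obtain ⟨c, hc⟩ := isConj_iff.1 (ConjClasses.mk_eq_mk_iff_isConj.1 hg')
  refine h q hq ?_
  rw [← hc]
  exact (orderOf_injective (MulAut.conj c).toMonoidHom (MulAut.conj c).injective g').symm ▸ hd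

instance {t : ℕ} {G : Type*} [Group G] [Finite G] : Finite (SClass t G) := Subtype.finite

theorem sclass_le_of_injective_hom {t : ℕ} {G H : Type*} [Group G] [Group H] [Finite H] (e : G ≃* H) :
    Nat.card (SClass t G) ≤ Nat.card (SClass t H) := by
  refine Nat.card_le_card_of_injective (fun C => (⟨ConjClasses.map e.toMonoidHom C.1, ?_⟩ : SClass t H)) ?_
  · obtain ⟨C, hC⟩ := C
    induction C using Quotient.inductionOn with | _ g => ?_
    refine smooth_mk fun q hq hd => hC q hq ⟨g, rfl, ?_⟩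
    rwa [← MulEquiv.orderOf_eq e g]
  · rintro ⟨C, hC⟩ ⟨D, hD⟩ h
    induction C using Quotient.inductionOn with | _ g => ?_
    induction D using Quotient.inductionOn with | _ g' => ?_
    refine Subtype.ext (ConjClasses.mk_eq_mk_iff_isConj.2 ?_)
    obtain ⟨c, hc⟩ := isConj_iff.1 (ConjClasses.mk_eq_mk_iff_isConj.1 (congrArg Subtype.val h))
    refine isConj_iff.2 ⟨e.symm c, e.injective ?_⟩
    simpa using hc

/-- If only the identity is smooth there is at most one smooth class. -/
theorem sclass_le_one {t : ℕ} {K : Type*} [Group K] [Finite K]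
    (h : ∀ g : K, (∀ q : ℕ, q.Prime → q ∣ orderOf g → q ≤ t) → g = 1) : Nat.card (SClass t K) ≤ 1 := by
  have : Subsingleton (SClass t K) := by
    refine ⟨fun C D => Subtype.ext ?_⟩
    suffices h' : ∀ C : SClass t K, C.1 = ConjClasses.mk 1 from (h' C).trans (h' D).symm
    rintro ⟨C, hC⟩
    induction C using Quotient.inductionOn with | _ g => ?_
    exact congrArg ConjClasses.mk (h g fun q hq hd => hC q hq ⟨g, rfl, hd⟩)
  exact Finite.card_le_one_iff_subsingleton.2 this

theorem eq_one_of_smooth_le_one {t : ℕ} (ht : t ≤ 1) {K : Type*} [Group K] (g : K)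
    (h : ∀ q : ℕ, q.Prime → q ∣ orderOf g → q ≤ t) : g = 1 := by
  by_contra hne
  obtain ⟨q, hq, hqd⟩ := Nat.exists_prime_and_dvd (n := orderOf g) (fun e => hne (orderOf_eq_one_iff.1 e))
  exact absurd ((h q hq hqd).trans ht) (not_le.2 hq.one_lt)

/-- A `p`-group has only the trivial class among elements with prime divisors below `p`. -/
theorem sclass_pgroup {p t : ℕ} [Fact p.Prime] (htp : t < p) {K : Type*} [Group K] [Finite K] (hK : IsPGroup p K) :
    Nat.card (SClass t K) ≤ 1 := by
  refine sclass_le_one fun g h => ?_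
  obtain ⟨k, hk⟩ := hK g
  obtain ⟨j, -, hj⟩ := (Nat.dvd_prime_pow (Fact.out : p.Prime)).1 (orderOf_dvd_of_pow_eq_one hk)
  by_contra hg
  have hj0 : j ≠ 0 := by rintro rfl; exact hg (orderOf_eq_one_iff.1 (by rw [hj, pow_zero]))
  have : p ≤ t := h p Fact.out (hj ▸ dvd_pow_self p hj0)
  omega

/-- Splitting off the `p`-part. -/
theorem exists_pPart {G : Type*} [Group G] [Finite G] {p : ℕ} [hp : Fact p.Prime] (g : G) :
    ∃ x y : G, Commute x y ∧ x * y = g ∧ (∃ k, x ^ p ^ k = 1) ∧
      ∀ q : ℕ, q.Prime → q ∣ orderOf y → q ∣ orderOf g ∧ q ≠ p := by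
  obtain ⟨k, b, hb, hgb⟩ := Nat.exists_eq_pow_mul_and_not_dvd (orderOf_pos g).ne' p hp.out.ne_one
  have hcop : (p ^ k).Coprime b := Nat.Coprime.pow_left _ (hp.out.coprime_iff_not_dvd.2 hb)
  obtain ⟨e, he1, he2⟩ := Nat.chineseRemainder hcop 1 0
  obtain ⟨f, hf1, hf2⟩ := Nat.chineseRemainder hcop 0 1
  have hpow : ∀ {i j : ℕ}, i ≡ j [MOD p ^ k * b] → g ^ i = g ^ j := fun h =>
    pow_eq_pow_iff_modEq.2 (h.of_dvd hgb.dvd)
  refine ⟨g ^ e, g ^ f, Commute.pow_pow_self g e f, ?_, ⟨k, ?_⟩, fun q hq hd => ?_⟩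
  · rw [← pow_add]
    exact (hpow ((Nat.modEq_and_modEq_iff_modEq_mul hcop).1 ⟨he1.add hf1, he2.add hf2⟩)).trans (pow_one g)
  · rw [← pow_mul, ← pow_zero g]
    refine hpow ((Nat.modEq_and_modEq_iff_modEq_mul hcop).1 ⟨Nat.modEq_zero_iff_dvd.2 (dvd_mul_left _ e), ?_⟩)
    simpa using he2.mul_right (p ^ k)
  · refine ⟨hd.trans (orderOf_pow_dvd f), fun hqp => hb ?_⟩
    have h1 : (g ^ f) ^ b = 1 := by
      rw [← pow_mul, ← pow_zero g]
      refine hpow ((Nat.modEq_and_modEq_iff_modEq_mul hcop).1 ⟨?_, Nat.modEq_zero_iff_dvd.2 (dvd_mul_left _ f)⟩)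
      simpa using hf1.mul_right b
    exact hqp ▸ hd.trans (orderOf_dvd_of_pow_eq_one h1)

/-- Every class of smooth elements for `t+1 = p` is seen as a pair (element of a Sylow subgroup, class in its
centralizer). -/
theorem sclass_step {G : Type*} [Group G] [Finite G] {p : ℕ} [Fact p.Prime] (P : Sylow p G)
    [Fintype ↥(P : Subgroup G)] {t : ℕ} (hpt : p = t + 1) :
    Nat.card (SClass p G) ≤
      ∑ x : ↥(P : Subgroup G), Nat.card (SClass t ↥(Subgroup.centralizer ({(x : G)} : Set G))) := by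
  rw [← Nat.card_sigma]
  have hex : ∀ C : SClass p G, ∃ (x : ↥(P : Subgroup G)) (y : ↥(Subgroup.centralizer ({(x : G)} : Set G))),
      ConjClasses.mk ((x : G) * y) = C.1 ∧ ∀ q : ℕ, q.Prime → q ∣ orderOf y → q ≤ t := by
    rintro ⟨C, hC⟩
    induction C using Quotient.inductionOn with | _ g => ?_
    obtain ⟨x, y, hxy, hg, ⟨k, hx⟩, hy⟩ := exists_pPart (p := p) g
    have hP : IsPGroup p ↥(Subgroup.zpowers x) := by
      obtain ⟨j, -, hj⟩ := (Nat.dvd_prime_pow (Fact.out : p.Prime)).1 (orderOf_dvd_of_pow_eq_one hx)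
      exact IsPGroup.of_card (n := j) (by rw [Nat.card_zpowers, hj])
    obtain ⟨Q, hQ⟩ := hP.exists_le_sylow
    obtain ⟨c, hc⟩ := MulAction.exists_smul_eq G Q P
    have hxP : c * x * c⁻¹ ∈ (P : Subgroup G) := by
      rw [← hc, Sylow.coe_subgroup_smul]
      exact Subgroup.mem_pointwise_smul_iff_inv_smul_mem.2 (by simpa [mul_assoc] using hQ (Subgroup.mem_zpowers x))
    have hyC : c * y * c⁻¹ ∈ Subgroup.centralizer ({c * x * c⁻¹} : Set G) :=
      Subgroup.mem_centralizer_singleton_iff.2 (by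
        have h := hxy.eq
        calc c * y * c⁻¹ * (c * x * c⁻¹) = c * (y * x) * c⁻¹ := by group
          _ = c * (x * y) * c⁻¹ := by rw [h]
          _ = c * x * c⁻¹ * (c * y * c⁻¹) := by group)
    refine ⟨⟨_, hxP⟩, ⟨_, hyC⟩, ?_, fun q hq hd => ?_⟩
    · refine ConjClasses.mk_eq_mk_iff_isConj.2 (IsConj.symm (isConj_iff.2 ⟨c, ?_⟩))
      show c * g * c⁻¹ = c * x * c⁻¹ * (c * y * c⁻¹)
      rw [← hg]; group
    · have hd' : q ∣ orderOf y := by
        rw [← Subgroup.orderOf_coe] at hd
        exact (orderOf_injective (MulAut.conj c).toMonoidHom (MulAut.conj c).injective y) ▸ hd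
      have h1 : q ≤ p := hC q hq ⟨g, rfl, (hy q hq hd').1⟩
      have h2 := (hy q hq hd').2
      omega
  choose x y hxy hy using hex
  have : ∀ x : ↥(P : Subgroup G), Finite (SClass t ↥(Subgroup.centralizer ({(x : G)} : Set G))) := inferInstance
  refine Nat.card_le_card_of_injective (fun C => (⟨x C, ⟨ConjClasses.mk (y C), smooth_mk (hy C)⟩⟩ :
    Σ x : ↥(P : Subgroup G), SClass t ↥(Subgroup.centralizer ({(x : G)} : Set G)))) fun C D h => ?_
  refine Subtype.ext (((hxy C).symm.trans ?_).trans (hxy D))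
  have key : ∀ (a b : ↥(P : Subgroup G)) (u : ↥(Subgroup.centralizer ({(a : G)} : Set G)))
      (v : ↥(Subgroup.centralizer ({(b : G)} : Set G))) (hu) (hv),
      (⟨a, ⟨ConjClasses.mk u, hu⟩⟩ : Σ x : ↥(P : Subgroup G),
        SClass t ↥(Subgroup.centralizer ({(x : G)} : Set G))) = ⟨b, ⟨ConjClasses.mk v, hv⟩⟩ →
      ConjClasses.mk ((a : G) * u) = ConjClasses.mk ((b : G) * v) := by
    intro a b u v hu hv h
    obtain ⟨h1, h2⟩ := Sigma.mk.inj_iff.1 h
    subst h1
    obtain ⟨c, hc⟩ := isConj_iff.1 (ConjClasses.mk_eq_mk_iff_isConj.1 (congrArg Subtype.val (eq_of_heq h2)))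
    refine ConjClasses.mk_eq_mk_iff_isConj.2 (isConj_iff.2 ⟨(c : G), ?_⟩)
    rw [← hc]
    have hca : (c : G) * a = a * c := Subgroup.mem_centralizer_singleton_iff.1 c.2
    show (c : G) * ((a : G) * u) * (c : G)⁻¹ = (a : G) * ((c : G) * u * (c : G)⁻¹)
    rw [← mul_assoc (c : G), hca]; group
  exact key _ _ _ _ _ _ h

/-- The action of the centralizer of `x` on the cycles of `x`. -/
theorem orbit_action {p t : ℕ} [hp : Fact p.Prime] (htp : t < p) {α : Type} [Finite α]
    (G : Subgroup (Perm α)) (x : ↥G) {k : ℕ} (hx : x ^ p ^ k = 1) :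
    ∃ (Y : Type) (_ : Finite Y) (H : Subgroup (Perm Y)), Nat.card Y + cost p (x : Perm α) ≤ Nat.card α ∧
      Nat.card (SClass t ↥(Subgroup.centralizer ({x} : Set ↥G))) ≤ Nat.card (SClass t ↥H) := by
  classical
  have := Fintype.ofFinite α
  let s : Setoid α := Perm.SameCycle.setoid (x : Perm α)
  let Y := Quotient s
  letI : Fintype Y := Fintype.ofFinite Y
  have hxn : ((x : Perm α)) ^ p ^ k = 1 := by rw [← Subgroup.coe_pow, hx, Subgroup.coe_one]
  let C := Subgroup.centralizer ({x} : Set ↥G)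
  have hcomm : ∀ (c : ↥C) (i : ℤ) (a : α),
      ((c : ↥G) : Perm α) (((x : Perm α) ^ i) a) = ((x : Perm α) ^ i) (((c : ↥G) : Perm α) a) := by
    intro c i a
    have h : Commute ((c : ↥G) : Perm α) (x : Perm α) :=
      congrArg (Subtype.val : ↥G → Perm α) (Subgroup.mem_centralizer_singleton_iff.1 c.2)
    exact congrArg (fun σ : Perm α => σ a) (h.zpow_right i).eq
  let act : ↥C → Y → Y := fun c => Quotient.map' (fun a => ((c : ↥G) : Perm α) a) (by
    rintro a b ⟨i, hi⟩
    exact ⟨i, by rw [← hcomm, hi]⟩)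
  let ψ : ↥C →* Perm Y :=
    { toFun := fun c =>
        { toFun := act c
          invFun := act c⁻¹
          left_inv := fun y => Quotient.inductionOn' y fun a => congrArg Quotient.mk'' (Equiv.symm_apply_apply ((c : ↥G) : Perm α) a)
          right_inv := fun y => Quotient.inductionOn' y fun a => congrArg Quotient.mk'' (Equiv.apply_symm_apply ((c : ↥G) : Perm α) a) }
      map_one' := Equiv.ext fun y => Quotient.inductionOn' y fun a => rfl
      map_mul' := fun c d => Equiv.ext fun y => Quotient.inductionOn' y fun a => rfl }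
  refine ⟨Y, inferInstance, ψ.range, ?_, ?_⟩
  · -- counting cycles
    let f : α → Y := Quotient.mk''
    have hinv : ∀ i a, f a = i → f ((x : Perm α) a) = i := fun i a ha =>
      (Quotient.sound' (Perm.sameCycle_apply_left.2 (Perm.SameCycle.refl _ a))).trans ha
    have hfib : ∀ i : Y, 1 + (p - 1) * (Nat.card {b : {a // f a = i} // (x : Perm α) b ≠ b} / p) ≤
        Nat.card {a // f a = i} ∧ p ∣ Nat.card {b : {a // f a = i} // (x : Perm α) b ≠ b} := by
      intro i
      let z : Perm {a // f a = i} := (x : Perm α).subtypePerm fun a => by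
        have : f ((x : Perm α) a) = f a := Quotient.sound' (Perm.sameCycle_apply_left.2 (Perm.SameCycle.refl _ a))
        rw [this]
      have hz : z ^ p ^ k = 1 := by
        rw [Perm.subtypePerm_pow]
        refine Equiv.ext fun b => Subtype.ext ?_
        show ((x : Perm α) ^ p ^ k) b = b
        rw [hxn]; rfl
      have hmz : Nat.card {b : {a // f a = i} // (x : Perm α) b ≠ b} = mv z :=
        Nat.card_congr (Equiv.subtypeEquivRight fun b =>
          ⟨fun h h' => h (congrArg Subtype.val h'), fun h h' => h (Subtype.ext h')⟩)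
      rw [hmz]
      refine ⟨?_, dvd_mv hz⟩
      obtain ⟨a, ha⟩ := Quotient.exists_rep i
      have : Nonempty {b // f b = i} := ⟨⟨a, ha⟩⟩
      have hle : mv z ≤ Nat.card {b // f b = i} := Nat.card_le_card_of_injective _ Subtype.val_injective
      have hpos : 0 < Nat.card {b // f b = i} := Nat.card_pos
      rcases Nat.eq_zero_or_pos (mv z / p) with h | h
      · rw [h, mul_zero]; omega
      · have h2 : p * (mv z / p) ≤ mv z := Nat.mul_div_le _ _
        have h3 : (p - 1) * (mv z / p) + mv z / p = p * (mv z / p) := by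
          rw [← Nat.succ_mul, Nat.succ_eq_add_one, Nat.sub_add_cancel hp.out.one_le]
        omega
    have hmv : mv (x : Perm α) = ∑ i, Nat.card {b : {a // f a = i} // (x : Perm α) b ≠ b} := by
      rw [mv, ← Nat.card_congr (Equiv.sigmaFiberEquiv (fun a : {a // (x : Perm α) a ≠ a} => f a.1)), Nat.card_sigma]
      exact Finset.sum_congr rfl fun i _ => Nat.card_congr
        { toFun := fun a => ⟨⟨a.1.1, a.2⟩, a.1.2⟩
          invFun := fun b => ⟨⟨b.1.1, b.2⟩, b.1.2⟩
          left_inv := fun a => rfl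
          right_inv := fun b => rfl }
    rw [cost, hmv, Nat.sum_div fun i _ => (hfib i).2, Finset.mul_sum, Nat.card_eq_fintype_card (α := Y),
      Fintype.card_eq_sum_ones, ← Finset.sum_add_distrib, ← Nat.card_congr (Equiv.sigmaFiberEquiv f),
      Nat.card_sigma]
    exact Finset.sum_le_sum fun i _ => (hfib i).1
  · have hker : IsPGroup p ↥ψ.ker := by
      intro c
      refine ⟨k, Subtype.ext (Subtype.ext (Subtype.ext (Equiv.ext fun a => ?_)))⟩
      show ((((c : ↥C) : ↥G) : Perm α) ^ p ^ k) a = a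
      have hc : Quotient.mk'' ((((c : ↥C) : ↥G) : Perm α) a) = (Quotient.mk'' a : Y) :=
        congrArg (fun σ : Perm Y => σ (Quotient.mk'' a)) (MonoidHom.mem_ker.1 c.2)
      obtain ⟨i, hi⟩ := Quotient.exact' hc.symm
      have hj : ∀ j : ℕ, ((((c : ↥C) : ↥G) : Perm α) ^ j) a = ((x : Perm α) ^ (i * j)) a := by
        intro j
        induction j with
        | zero => simp
        | succ j ih =>
          rw [pow_succ', Perm.mul_apply, ih, hcomm, ← hi, ← Perm.mul_apply, ← zpow_add]
          push_cast; ring_nf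
      rw [hj, mul_comm, zpow_mul, zpow_natCast, hxn, one_zpow]; rfl
    have h1 := CfsgLib.StructB.card_piClasses_le_mul_quotient ψ.ker {q : ℕ | q ≤ t}
    refine le_trans h1 ?_
    refine le_trans (Nat.mul_le_mul (sclass_pgroup htp hker)
      (sclass_le_of_injective_hom (QuotientGroup.quotientKerEquivRange ψ))) ?_
    rw [one_mul]

/-- The bound after the primes up to `t`. -/
noncomputable def bd (t : ℕ) : ℝ := 5 / 2 * ∏ i ∈ Finset.Ico 2 t, (1 + ((2 : ℝ) / 5) ^ i)

theorem bd_ge (t : ℕ) : 5 / 2 ≤ bd t :=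
  le_mul_of_one_le_right (by norm_num) (Finset.one_le_prod fun i _ => le_add_of_nonneg_right (by positivity))

theorem bd_le (t : ℕ) : bd t ≤ 15 / 4 := by
  have key : ∀ t : ℕ, 2 ≤ t → ∏ i ∈ Finset.Ico 2 t, (1 + ((2 : ℝ) / 5) ^ i) ≤ 3 / 2 - 5 / 2 * (2 / 5) ^ t := by
    intro t ht
    induction t, ht using Nat.le_induction with
    | base => norm_num
    | succ t ht ih =>
      rw [Finset.prod_Ico_succ_top ht, pow_succ]
      have h0 : (0 : ℝ) ≤ (2 / 5 : ℝ) ^ t := by positivity
      nlinarith [mul_le_mul_of_nonneg_right ih (show (0 : ℝ) ≤ 1 + (2 / 5) ^ t by positivity)]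
  rcases Nat.lt_or_ge t 2 with h | h
  · rw [bd, Finset.Ico_eq_empty (by omega), Finset.prod_empty]; norm_num
  · have h0 : (0 : ℝ) ≤ (2 / 5 : ℝ) ^ t := by positivity
    have := key t h
    rw [bd]; linarith

theorem bd_mono_succ (t : ℕ) : bd t ≤ bd (t + 1) := by
  rcases Nat.lt_or_ge t 2 with h | h
  · rw [bd, Finset.Ico_eq_empty (by omega), Finset.prod_empty, mul_one]; exact bd_ge _
  · rw [bd, bd, Finset.prod_Ico_succ_top h, ← mul_assoc]
    exact le_mul_of_one_le_right (by positivity) (le_add_of_nonneg_right (by positivity))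

/-- The main bound. -/
theorem sclass_bound (t : ℕ) : ∀ (α : Type) [Finite α] (G : Subgroup (Perm α)),
    (Nat.card (SClass t ↥G) : ℝ) ≤ bd t ^ Nat.card α := by
  classical
  induction t with
  | zero =>
    intro α _ G
    calc (Nat.card (SClass 0 ↥G) : ℝ) ≤ 1 := by
          exact_mod_cast sclass_le_one fun g h => eq_one_of_smooth_le_one zero_le_one g h
      _ ≤ _ := one_le_pow₀ (le_trans (by norm_num) (bd_ge 0))
  | succ t ih =>
    intro α _ G
    by_cases hp : (t + 1).Prime
    swap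
    · refine le_trans ?_ ((ih α G).trans (pow_le_pow_left₀ (le_trans (by norm_num) (bd_ge t)) (bd_mono_succ t) _))
      refine Nat.cast_le.2 (Nat.card_le_card_of_injective (fun C => (⟨C.1, fun q hq h => ?_⟩ : SClass t ↥G))
        fun C D h => Subtype.ext (congrArg Subtype.val h :))
      have h1 : q ≤ t + 1 := C.2 q hq h
      have h2 : q ≠ t + 1 := fun e => hp (e ▸ hq)
      show q ≤ t
      omega
    rcases Nat.eq_zero_or_pos (Nat.card α) with hn | hn
    · have : IsEmpty α := Finite.card_eq_zero_iff.1 hn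
      have hs : Subsingleton ↥G := ⟨fun a b => Subtype.ext (Equiv.ext fun c => (IsEmpty.false c).elim)⟩
      rw [hn, pow_zero]
      exact_mod_cast sclass_le_one fun g _ => hs.elim g 1
    have : Nonempty α := (Nat.card_pos_iff.1 hn).1
    have : Fact (t + 1).Prime := ⟨hp⟩
    obtain ⟨P⟩ : Nonempty (Sylow (t + 1) ↥G) := inferInstance
    letI := Fintype.ofFinite ↥(P : Subgroup ↥G)
    let P' : Subgroup (Perm α) := (P : Subgroup ↥G).map G.subtype
    let e : ↥(P : Subgroup ↥G) ≃* ↥P' := (P : Subgroup ↥G).equivMapOfInjective _ G.subtype_injective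
    have hP' : IsPGroup (t + 1) ↥P' := P.isPGroup'.map _
    obtain ⟨hcard, hweight⟩ := pgroup_bound (p := t + 1) (Nat.card α) α rfl P' hP'
    rcases Nat.lt_or_ge t 2 with ht | ht
    · -- the prime 2
      obtain rfl : t = 1 := by
        rcases Nat.eq_zero_or_pos t with rfl | h
        · exact absurd hp Nat.not_prime_one
        · omega
      have h1 : Nat.card (SClass 2 ↥G) ≤ 2 ^ (Nat.card α - 1) := by
        refine le_trans ?_ (by simpa using hcard)
        refine (sclass_step P (t := 1) rfl).trans ?_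
        rw [← Nat.card_congr e.toEquiv, Nat.card_eq_fintype_card, Fintype.card_eq_sum_ones]
        refine Finset.sum_le_sum fun x _ => ?_
        exact sclass_le_one fun g h => eq_one_of_smooth_le_one le_rfl g h
      calc (Nat.card (SClass (1 + 1) ↥G) : ℝ) ≤ ((2 ^ (Nat.card α - 1) : ℕ) : ℝ) := by exact_mod_cast h1
        _ ≤ (2 : ℝ) ^ Nat.card α := by push_cast; exact pow_le_pow_right₀ one_le_two (Nat.sub_le _ _)
        _ ≤ bd (1 + 1) ^ Nat.card α := pow_le_pow_left₀ two_pos.le (le_trans (by norm_num) (bd_ge _)) _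
    · -- an odd prime
      have hB : (5 : ℝ) / 2 ≤ bd t := bd_ge t
      have hB0 : 0 < bd t := by linarith
      have hfib : ∀ x : ↥(P : Subgroup ↥G),
          (Nat.card (SClass t ↥(Subgroup.centralizer ({(x : ↥G)} : Set ↥G))) : ℝ) ≤
            bd t ^ Nat.card α * ((2 : ℝ) / 5) ^ cost (t + 1) ((e x : ↥P') : Perm α) := by
        intro x
        obtain ⟨k, hk⟩ := P.isPGroup' x
        obtain ⟨Y, _, H, hY, hH⟩ := orbit_action (p := t + 1) (t := t) (by omega) G (x : ↥G) (k := k)
          (by rw [← Subgroup.coe_pow, hk, Subgroup.coe_one])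
        show _ ≤ bd t ^ Nat.card α * ((2 : ℝ) / 5) ^ cost (t + 1) ((x : ↥G) : Perm α)
        calc (Nat.card (SClass t ↥(Subgroup.centralizer ({(x : ↥G)} : Set ↥G))) : ℝ) ≤ bd t ^ Nat.card Y :=
              (Nat.cast_le.2 hH).trans (ih Y H)
          _ ≤ bd t ^ (Nat.card α - cost (t + 1) ((x : ↥G) : Perm α)) :=
              pow_le_pow_right₀ (by linarith) (by omega)
          _ ≤ _ := by
              rw [pow_sub₀ _ hB0.ne' (by omega), ← inv_pow]
              refine mul_le_mul_of_nonneg_left (pow_le_pow_left₀ (by positivity) ?_ _) (by positivity)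
              rw [inv_le_iff_one_le_mul₀ hB0]
              linarith
      letI := Fintype.ofFinite ↥P'
      calc (Nat.card (SClass (t + 1) ↥G) : ℝ)
          ≤ ∑ x : ↥(P : Subgroup ↥G), (Nat.card (SClass t ↥(Subgroup.centralizer ({(x : ↥G)} : Set ↥G))) : ℝ) := by
            exact_mod_cast sclass_step P (t := t) rfl
        _ ≤ ∑ x : ↥(P : Subgroup ↥G), bd t ^ Nat.card α * ((2 : ℝ) / 5) ^ cost (t + 1) ((e x : ↥P') : Perm α) :=
            Finset.sum_le_sum fun x _ => hfib x
        _ = bd t ^ Nat.card α * ∑ y : ↥P', ((2 : ℝ) / 5) ^ cost (t + 1) (y : Perm α) := by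
            rw [← Finset.mul_sum]
            exact congrArg _ (Equiv.sum_comp e.toEquiv (fun y : ↥P' => ((2 : ℝ) / 5) ^ cost (t + 1) (y : Perm α)))
        _ = bd t ^ Nat.card α * weight (t + 1) P' := by rfl
        _ ≤ bd t ^ Nat.card α * (1 + ((2 : ℝ) / 5) ^ (t + 1 - 1)) ^ Nat.card α :=
            mul_le_mul_of_nonneg_left ((hweight (by omega)).trans
              (pow_le_pow_right₀ (le_add_of_nonneg_right (by positivity)) (Nat.sub_le _ _))) (by positivity)
        _ = bd (t + 1) ^ Nat.card α := by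
            rw [← mul_pow, Nat.add_sub_cancel, bd, bd, Finset.prod_Ico_succ_top ht, mul_assoc]

/-- At most `5 ^ (n-1)` classes. -/
theorem classes_le_five_pow (α : Type) [Finite α] (G : Subgroup (Perm α)) :
    Nat.card (ConjClasses ↥G) ≤ 5 ^ (Nat.card α - 1) := by
  classical
  have := Fintype.ofFinite α
  set n := Nat.card α with hn
  rcases Nat.lt_or_ge n 6 with h | h
  · have h1 : Nat.card (ConjClasses ↥G) ≤ n.factorial := by
      refine (Nat.card_le_card_of_surjective _ ConjClasses.mk_surjective).trans ?_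
      rw [hn, ← Nat.card_perm]
      exact Nat.card_le_card_of_injective _ Subtype.val_injective
    refine h1.trans ?_
    interval_cases n <;> decide
  · have hall : Nat.card (ConjClasses ↥G) ≤ Nat.card (SClass n ↥G) := by
      refine Nat.card_le_card_of_injective (fun C => (⟨C, ?_⟩ : SClass n ↥G)) fun C D h => congrArg Subtype.val h
      rintro q hq ⟨g, -, hd⟩
      refine (hq.dvd_factorial).1 (hd.trans ((orderOf_dvd_natCard g).trans ?_))
      rw [hn, ← Nat.card_perm]
      exact Subgroup.card_subgroup_dvd_card G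
    have h2 : (Nat.card (ConjClasses ↥G) : ℝ) ≤ (15 / 4 : ℝ) ^ n :=
      ((Nat.cast_le.2 hall).trans (sclass_bound n α G)).trans
        (pow_le_pow_left₀ (le_trans (by norm_num) (bd_ge n)) (bd_le n) _)
    have h3 : (15 / 4 : ℝ) ^ n ≤ (5 : ℝ) ^ (n - 1) := by
      obtain ⟨m, hm⟩ : ∃ m, n = m + 6 := ⟨n - 6, by omega⟩
      rw [hm, show m + 6 - 1 = m + 5 by omega, pow_add, pow_add]
      exact mul_le_mul (pow_le_pow_left₀ (by norm_num) (by norm_num) _) (by norm_num) (by norm_num) (by positivity)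
    exact_mod_cast h2.trans h3

end CfsgLib.PermClasses
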