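import Mathlib

/-!
Weighted counting of the elements of a `p`-group of permutations: if each element is weighted by
`(2/5) ^ ((p-1) * moved / p)` then the total is at most `(1 + (2/5)^(p-1)) ^ (n-1)`.
-/

set_option autoImplicit false
set_option linter.style.haveILetI false

namespace CfsgLib.PermClasses

open Equiv

/-- Number of moved points. -/
noncomputable def mv {α : Type} (x : Perm α) : ℕ := Nat.card {a // x a ≠ a}

/-- The cost of a `p`-element. -/
noncomputable def cost (p : ℕ) {α : Type} (x : Perm α) : ℕ := (p - 1) * (mv x / p)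

theorem dvd_mv {p : ℕ} [Fact p.Prime] {α : Type} [Finite α] {x : Perm α} {k : ℕ}
    (hx : x ^ p ^ k = 1) : p ∣ mv x := by
  classical
  have hfin := Fintype.ofFinite α
  obtain ⟨j, -, hj⟩ := (Nat.dvd_prime_pow (Fact.out : p.Prime)).1 (orderOf_dvd_of_pow_eq_one hx)
  have hP : IsPGroup p ↥(Subgroup.zpowers x) :=
    IsPGroup.of_card (n := j) (by rw [Nat.card_zpowers, hj])
  have h := hP.card_modEq_card_fixedPoints α
  have hfix : Nat.card (MulAction.fixedPoints ↥(Subgroup.zpowers x) α) = Nat.card {a // x a = a} := by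
    refine Nat.card_congr (Equiv.subtypeEquivRight fun a => ?_)
    refine ⟨fun ha => ha ⟨x, Subgroup.mem_zpowers x⟩, fun ha g => ?_⟩
    obtain ⟨i, hi⟩ := Subgroup.mem_zpowers_iff.1 g.2
    show (g : Perm α) a = a
    rw [← hi]
    exact Perm.zpow_apply_eq_self_of_apply_eq_self ha i
  rw [hfix] at h
  have hsum : Nat.card {a // x a = a} + mv x = Nat.card α := by
    rw [mv, ← Nat.card_sum]
    exact Nat.card_congr (Equiv.sumCompl (fun a => x a = a))
  rw [← hsum] at h
  have h' : mv x ≡ 0 [MOD p] :=
    Nat.ModEq.add_left_cancel (Nat.ModEq.refl (Nat.card {a // x a = a})) (by simpa using h)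
  exact Nat.modEq_zero_iff_dvd.1 h'

/-- The weight sum of a group of permutations. -/
noncomputable def weight (p : ℕ) {α : Type} [Finite α] (P : Subgroup (Perm α)) : ℝ :=
  letI := Fintype.ofFinite ↥P
  ∑ x : ↥P, ((2 : ℝ) / 5) ^ cost p (x : Perm α)

/-- Restriction to the fibres of an invariant map: orders and weights are bounded by the products. -/
theorem fibred_bound {p : ℕ} [Fact p.Prime] {α ι : Type} [Finite α] [Fintype ι] (f : α → ι)
    (P : Subgroup (Perm α)) (hP : IsPGroup p P) (hf : ∀ x ∈ P, ∀ a, f (x a) = f a)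
    (e : ι → ℕ) {c : ℝ}
    (hib : ∀ (i : ι) (Q : Subgroup (Perm {a // f a = i})), IsPGroup p Q →
      Nat.card Q ^ (p - 1) ≤ p ^ e i ∧ weight p Q ≤ c ^ e i) :
    Nat.card P ^ (p - 1) ≤ p ^ (∑ i, e i) ∧ weight p P ≤ c ^ (∑ i, e i) := by
  classical
  let res : (i : ι) → (↥P →* Perm {a // f a = i}) := fun i =>
    { toFun := fun x => (x : Perm α).subtypePerm fun a => by rw [hf _ x.2]
      map_one' := by ext a; rfl
      map_mul' := fun x y => by ext a; rfl }
  have hres : ∀ i (x : ↥P) (b : {a // f a = i}), ((res i x b : {a // f a = i}) : α) = (x : Perm α) b :=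
    fun i x b => rfl
  have hQp : ∀ i, IsPGroup p (res i).range := fun i =>
    hP.of_surjective (res i).rangeRestrict (MonoidHom.rangeRestrict_surjective _)
  let Φ : ↥P → ((i : ι) → ↥(res i).range) := fun x i => (res i).rangeRestrict x
  have hΦ : Function.Injective Φ := by
    intro x y h
    refine Subtype.ext (Equiv.ext fun a => ?_)
    have h1 := congrArg (fun w : ↥(res (f a)).range => (((w : Perm {b // f b = f a}) ⟨a, rfl⟩ : {b // f b = f a}) : α))
      (congrFun h (f a))
    exact h1
  constructor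
  · have h1 : Nat.card P ≤ ∏ i, Nat.card (res i).range := by
      rw [← Nat.card_pi]
      exact Nat.card_le_card_of_injective Φ hΦ
    calc Nat.card P ^ (p - 1) ≤ (∏ i, Nat.card (res i).range) ^ (p - 1) := Nat.pow_le_pow_left h1 _
      _ = ∏ i, Nat.card (res i).range ^ (p - 1) := (Finset.prod_pow _ _ _).symm
      _ ≤ ∏ i, p ^ e i := Finset.prod_le_prod' fun i _ => (hib i _ (hQp i)).1
      _ = p ^ (∑ i, e i) := Finset.prod_pow_eq_pow_sum _ _ _
  · letI := Fintype.ofFinite ↥P
    letI : ∀ i, Fintype ↥(res i).range := fun i => Fintype.ofFinite _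
    let w : (i : ι) → ↥(res i).range → ℝ := fun i v =>
      ((2 : ℝ) / 5) ^ cost p (v : Perm {a // f a = i})
    have hwx : ∀ x : ↥P, ((2 : ℝ) / 5) ^ cost p (x : Perm α) = ∏ i, w i (Φ x i) := by
      intro x
      show _ = ∏ i, ((2 : ℝ) / 5) ^ cost p (res i x)
      rw [Finset.prod_pow_eq_pow_sum]
      congr 1
      have hmv : mv (x : Perm α) = ∑ i, mv (res i x) := by
        rw [mv, ← Nat.card_congr (Equiv.sigmaFiberEquiv (fun a : {a // (x : Perm α) a ≠ a} => f a.1)),
          Nat.card_sigma]
        refine Finset.sum_congr rfl fun i _ => Nat.card_congr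
          { toFun := fun a => ⟨⟨a.1.1, a.2⟩, fun h => a.1.2 (congrArg Subtype.val h)⟩
            invFun := fun b => ⟨⟨b.1.1, fun h => b.2 (Subtype.ext h)⟩, b.1.2⟩
            left_inv := fun a => rfl
            right_inv := fun b => rfl }
      have hd : ∀ i ∈ (Finset.univ : Finset ι), p ∣ mv (res i x) := fun i _ => by
        obtain ⟨k, hk⟩ := hP x
        exact dvd_mv (k := k) (by rw [← map_pow, hk, map_one])
      simp only [cost]
      rw [hmv, Nat.sum_div hd, Finset.mul_sum]
    have hw0 : ∀ i v, 0 ≤ w i v := fun i v => pow_nonneg (by norm_num) _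
    have hsumQ : ∀ i, ∑ v, w i v ≤ c ^ e i := fun i => by
      have h := (hib i _ (hQp i)).2
      unfold weight at h
      convert h using 2
    have hWP : weight p P = ∑ x : ↥P, ∏ i, w i (Φ x i) := by
      unfold weight
      convert Finset.sum_congr (rfl : (Finset.univ : Finset ↥P) = Finset.univ) (fun x _ => hwx x) using 2
    have himg : ∑ x : ↥P, ∏ i, w i (Φ x i) ≤ ∑ v : (i : ι) → ↥(res i).range, ∏ i, w i (v i) := by
      rw [← Finset.sum_image (f := fun v : (i : ι) → ↥(res i).range => ∏ i, w i (v i))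
        (g := Φ) hΦ.injOn]
      exact Finset.sum_le_univ_sum_of_nonneg fun v => Finset.prod_nonneg fun i _ => hw0 i _
    rw [hWP]
    refine himg.trans ?_
    rw [← Fintype.prod_sum w, ← Finset.prod_pow_eq_pow_sum]
    exact Finset.prod_le_prod (fun i _ => Finset.sum_nonneg fun v _ => hw0 i v) fun i _ => hsumQ i

theorem one_add_mul_pow_le (p : ℕ) (x : ℝ) (hx : 0 ≤ x) :
    1 + ((p - 1 : ℕ) : ℝ) * x ≤ (1 + x) ^ (p - 1) :=
  one_add_mul_le_pow (by linarith) _

theorem pow_prime_bound {p : ℕ} (hp : 3 ≤ p) :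
    (p : ℝ) ^ p * ((2 : ℝ) / 5) ^ ((p - 1) * (p - 1)) ≤ 1 := by
  rcases Nat.lt_or_ge p 4 with h | h
  · obtain rfl : p = 3 := by omega
    norm_num
  have key : ∀ q : ℕ, 4 ≤ q → (q : ℝ) * ((2 : ℝ) / 5) ^ (q - 2) ≤ 1 := by
    intro q hq
    induction q, hq using Nat.le_induction with
    | base => norm_num
    | succ q hq ih =>
      rw [show q + 1 - 2 = (q - 2) + 1 by omega, pow_succ]
      have h4 : (4 : ℝ) ≤ q := by exact_mod_cast hq
      have h0 : (0 : ℝ) ≤ ((2 : ℝ) / 5) ^ (q - 2) := pow_nonneg (by norm_num) _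
      push_cast
      nlinarith
  have hexp : (p - 1) * (p - 1) = (p - 2) * p + 1 := by
    obtain ⟨r, rfl⟩ : ∃ r, p = r + 2 := ⟨p - 2, by omega⟩
    simp; ring
  rw [hexp, pow_succ, pow_mul, ← mul_assoc, ← mul_pow]
  have h0 : 0 ≤ (p : ℝ) * ((2 : ℝ) / 5) ^ (p - 2) := mul_nonneg (Nat.cast_nonneg _) (pow_nonneg (by norm_num) _)
  calc ((p : ℝ) * ((2 : ℝ) / 5) ^ (p - 2)) ^ p * (2 / 5) ≤ 1 * (2 / 5) :=
        mul_le_mul_of_nonneg_right (pow_le_one₀ h0 (key p h)) (by norm_num)
    _ ≤ 1 := by norm_num

/-- The bound on order and weight of a `p`-group of permutations of `n ≥ 1` points. -/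
theorem pgroup_bound {p : ℕ} [hp : Fact p.Prime] (n : ℕ) :
    ∀ (α : Type) [Finite α] [Nonempty α], Nat.card α = n → ∀ P : Subgroup (Perm α), IsPGroup p P →
      Nat.card P ^ (p - 1) ≤ p ^ (n - 1) ∧
        (3 ≤ p → weight p P ≤ (1 + ((2 : ℝ) / 5) ^ (p - 1)) ^ (n - 1)) := by
  induction n using Nat.strong_induction_on with
  | _ n ih => ?_
  intro α _ _ hn P hP
  classical
  have := Fintype.ofFinite α
  -- the product bound for any invariant map with smaller fibres
  have hfib : ∀ {ι : Type} [Fintype ι] (f : α → ι), Function.Surjective f →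
      ∀ K : Subgroup (Perm α), IsPGroup p K → (∀ x ∈ K, ∀ a, f (x a) = f a) →
      (∀ i, Nat.card {a // f a = i} < n) →
      Nat.card K ^ (p - 1) ≤ p ^ (n - Fintype.card ι) ∧
        (3 ≤ p → weight p K ≤ (1 + ((2 : ℝ) / 5) ^ (p - 1)) ^ (n - Fintype.card ι)) := by
    intro ι _ f hfs K hK hf hlt
    have hne : ∀ i, Nonempty {a // f a = i} := fun i => let ⟨a, ha⟩ := hfs i; ⟨⟨a, ha⟩⟩
    have hsum : ∑ i, (Nat.card {a // f a = i} - 1) = n - Fintype.card ι := by
      have h1 : ∑ i, Nat.card {a // f a = i} = n := by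
        rw [← Nat.card_sigma, Nat.card_congr (Equiv.sigmaFiberEquiv f), hn]
      have h2 : ∑ i, (Nat.card {a // f a = i} - 1) + Fintype.card ι = n := by
        rw [← h1, Fintype.card_eq_sum_ones, ← Finset.sum_add_distrib]
        refine Finset.sum_congr rfl fun i _ => Nat.sub_add_cancel ?_
        have := hne i
        exact Nat.card_pos
      omega
    rw [← hsum]
    by_cases h3 : 3 ≤ p
    · have := fibred_bound f K hK hf (fun i => Nat.card {a // f a = i} - 1)
        (c := 1 + ((2 : ℝ) / 5) ^ (p - 1)) fun i Q hQ => by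
          have := hne i
          obtain ⟨h1, h2⟩ := ih _ (hlt i) {a // f a = i} rfl Q hQ
          exact ⟨h1, h2 h3⟩
      exact ⟨this.1, fun _ => this.2⟩
    · refine ⟨?_, fun h => absurd h h3⟩
      -- without the weight: reuse the lemma with a large constant
      let res : (i : ι) → (↥K →* Perm {a // f a = i}) := fun i =>
        { toFun := fun x => (x : Perm α).subtypePerm fun a => by rw [hf _ x.2]
          map_one' := by ext a; rfl
          map_mul' := fun x y => by ext a; rfl }
      let Φ : ↥K → ((i : ι) → ↥(res i).range) := fun x i => (res i).rangeRestrict x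
      have hΦ : Function.Injective Φ := by
        intro x y h
        refine Subtype.ext (Equiv.ext fun a => ?_)
        exact congrArg (fun w : ↥(res (f a)).range =>
          (((w : Perm {b // f b = f a}) ⟨a, rfl⟩ : {b // f b = f a}) : α)) (congrFun h (f a))
      have h1 : Nat.card K ≤ ∏ i, Nat.card (res i).range := by
        rw [← Nat.card_pi]
        exact Nat.card_le_card_of_injective Φ hΦ
      calc Nat.card K ^ (p - 1) ≤ (∏ i, Nat.card (res i).range) ^ (p - 1) := Nat.pow_le_pow_left h1 _
        _ = ∏ i, Nat.card (res i).range ^ (p - 1) := (Finset.prod_pow _ _ _).symm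
        _ ≤ ∏ i, p ^ (Nat.card {a // f a = i} - 1) := Finset.prod_le_prod' fun i _ => by
            have := hne i
            exact (ih _ (hlt i) {a // f a = i} rfl _
              (hK.of_surjective (res i).rangeRestrict (MonoidHom.rangeRestrict_surjective _))).1
        _ = p ^ _ := Finset.prod_pow_eq_pow_sum _ _ _
  by_cases htr : MulAction.IsPretransitive ↥P α
  swap
  · -- intransitive
    let ι := MulAction.orbitRel.Quotient ↥P α
    let f : α → ι := Quotient.mk _
    have : Fintype ι := Fintype.ofFinite ι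
    have hf : ∀ x ∈ P, ∀ a, f (x a) = f a := fun x hx a => Quotient.sound ⟨⟨x, hx⟩, rfl⟩
    have hlt : ∀ i, Nat.card {a // f a = i} < n := by
      intro i
      obtain ⟨a, b, hab⟩ : ∃ a b, f a ≠ f b := by
        by_contra h
        push Not at h
        exact htr ⟨fun a b => Quotient.exact (h b a)⟩
      rw [← hn]
      rcases eq_or_ne (f a) i with h | h
      · exact Finite.card_subtype_lt (x := b) fun h' => hab (h.trans h'.symm)
      · exact Finite.card_subtype_lt (x := a) h
    obtain ⟨h1, h2⟩ := hfib f (Quotient.mk_surjective) P hP hf hlt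
    have hι : 1 ≤ Fintype.card ι := Fintype.card_pos_iff.2 ⟨f (Classical.arbitrary α)⟩
    refine ⟨h1.trans (Nat.pow_le_pow_right hp.out.pos (by omega)), fun h3 => (h2 h3).trans ?_⟩
    exact pow_le_pow_right₀ (le_add_of_nonneg_right (pow_nonneg (by norm_num) _)) (by omega)
  · -- transitive
    rcases Nat.lt_or_ge n 2 with h2 | h2
    · have : Subsingleton α := Finite.card_le_one_iff_subsingleton.1 (by omega)
      have hP1 : P = ⊥ := eq_bot_iff.2 fun x _ => Subgroup.mem_bot.2 (Equiv.ext fun a => Subsingleton.elim _ _)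
      have hs : Subsingleton ↥P := by rw [hP1]; infer_instance
      refine ⟨by rw [hP1, Subgroup.card_bot, one_pow]; exact Nat.one_le_pow _ _ hp.out.pos, fun _ => ?_⟩
      have : weight p P = 1 := by
        letI := Fintype.ofFinite ↥P
        unfold weight
        rw [Finset.sum_eq_single (1 : ↥P) (fun x _ h => absurd (Subsingleton.elim x 1) h)
          (fun h => absurd (Finset.mem_univ _) h)]
        simp [cost, mv]
      rw [this]
      exact one_le_pow₀ (le_add_of_nonneg_right (pow_nonneg (by norm_num) _))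
    let a0 := Classical.arbitrary α
    have hst : MulAction.stabilizer ↥P a0 ≠ ⊤ := by
      intro h
      have hsub : Subsingleton α := ⟨fun a b => by
        obtain ⟨g, rfl⟩ := MulAction.exists_smul_eq ↥P a0 a
        obtain ⟨g', rfl⟩ := MulAction.exists_smul_eq ↥P a0 b
        rw [MulAction.mem_stabilizer_iff.1 (show g ∈ MulAction.stabilizer ↥P a0 by rw [h]; trivial),
          MulAction.mem_stabilizer_iff.1 (show g' ∈ MulAction.stabilizer ↥P a0 by rw [h]; trivial)]⟩
      have := Finite.card_le_one_iff_subsingleton.2 hsub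
      omega
    obtain ⟨M, hM, hle⟩ := (eq_top_or_exists_le_coatom (MulAction.stabilizer ↥P a0)).resolve_left hst
    have : Group.IsNilpotent ↥P := hP.isNilpotent
    have : M.Normal := Subgroup.NormalizerCondition.normal_of_coatom _ normalizerCondition_of_isNilpotent hM
    have hidx : M.index = p := by
      obtain ⟨k, hk⟩ := (hP.to_quotient M).exists_card_eq
      rw [Subgroup.index_eq_card]
      rcases Nat.eq_zero_or_pos k with rfl | hk0
      · exact absurd (Subgroup.index_eq_one.1 (by rw [Subgroup.index_eq_card, hk, pow_zero])) hM.1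
      obtain ⟨y, hy⟩ := exists_prime_orderOf_dvd_card' (G := ↥P ⧸ M) p (hk ▸ dvd_pow_self p hk0.ne')
      have hlt : M < (Subgroup.zpowers y).comap (QuotientGroup.mk' M) := by
        refine lt_of_le_of_ne (fun m hm => ?_) fun heq => ?_
        · rw [Subgroup.mem_comap, QuotientGroup.mk'_apply, (QuotientGroup.eq_one_iff m).2 hm]
          exact one_mem _
        · obtain ⟨g, rfl⟩ := QuotientGroup.mk'_surjective M y
          have : g ∈ M := by rw [heq]; exact Subgroup.mem_zpowers _
          rw [QuotientGroup.mk'_apply, (QuotientGroup.eq_one_iff g).2 this, orderOf_one] at hy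
          exact hp.out.one_lt.ne hy
      have htop := Subgroup.map_comap_eq_self_of_surjective (QuotientGroup.mk'_surjective M) (Subgroup.zpowers y)
      rw [hM.2 _ hlt, Subgroup.map_top_of_surjective _ (QuotientGroup.mk'_surjective M)] at htop
      rw [← Subgroup.card_top, htop, Nat.card_zpowers, hy]
    -- the block map
    have hg : ∀ a, ∃ g : ↥P, g • a0 = a := fun a => MulAction.exists_smul_eq ↥P a0 a
    choose g hg using hg
    let f : α → ↥P ⧸ M := fun a => (g a : ↥P ⧸ M)
    have hfg : ∀ (x : ↥P), f (x • a0) = (x : ↥P ⧸ M) := fun x => QuotientGroup.eq.2 (hle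
      (show (g (x • a0))⁻¹ * x ∈ MulAction.stabilizer ↥P a0 by
        rw [MulAction.mem_stabilizer_iff, mul_smul, inv_smul_eq_iff, hg]))
    have hfmul : ∀ (x : ↥P) (a : α), f ((x : Perm α) a) = (x : ↥P ⧸ M) * f a := by
      intro x a
      have : (x : Perm α) a = (x * g a) • a0 := by rw [mul_smul, hg]; rfl
      rw [this, hfg]; rfl
    let K : Subgroup (Perm α) := M.map P.subtype
    have hK : IsPGroup p K := hP.to_le (Subgroup.map_subtype_le M)
    have hKf : ∀ x ∈ K, ∀ a, f (x a) = f a := by
      rintro x ⟨m, hm, rfl⟩ a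
      rw [Subgroup.coe_subtype, hfmul, (QuotientGroup.eq_one_iff m).2 hm, one_mul]
    letI : Fintype (↥P ⧸ M) := Fintype.ofFinite _
    have hι : Fintype.card (↥P ⧸ M) = p := by rw [← Nat.card_eq_fintype_card, ← Subgroup.index_eq_card, hidx]
    have hfs : Function.Surjective f := fun q => by
      obtain ⟨x, rfl⟩ := QuotientGroup.mk_surjective q
      exact ⟨x • a0, hfg x⟩
    have hmoves : ∀ x : ↥P, x ∉ M → ∀ a, (x : Perm α) a ≠ a := fun x hx a h => hx <| by
      have := hfmul x a
      rw [h] at this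
      exact (QuotientGroup.eq_one_iff x).1 (mul_eq_right.1 this.symm)
    have hlt : ∀ i, Nat.card {a // f a = i} < n := by
      intro i
      obtain ⟨j, hj⟩ := Fintype.exists_ne_of_one_lt_card (hι ▸ hp.out.one_lt) i
      obtain ⟨a, ha⟩ := hfs j
      rw [← hn]
      exact Finite.card_subtype_lt (x := a) (ha ▸ hj)
    obtain ⟨hK1, hK2⟩ := hfib f hfs K hK hKf hlt
    rw [hι] at hK1 hK2
    have hpn : p ≤ n := by
      rw [← hι, ← hn, Nat.card_eq_fintype_card]
      exact Fintype.card_le_of_surjective f hfs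
    have hcardP : Nat.card ↥P = p * Nat.card K := by
      rw [Nat.card_congr (M.equivMapOfInjective P.subtype P.subtype_injective).toEquiv.symm, ← hidx,
        mul_comm, Subgroup.card_mul_index]
    refine ⟨?_, fun h3 => ?_⟩
    · rw [hcardP, mul_pow]
      calc p ^ (p - 1) * Nat.card K ^ (p - 1) ≤ p ^ (p - 1) * p ^ (n - p) := Nat.mul_le_mul_left _ hK1
        _ = p ^ (n - 1) := by
            have := hp.out.one_le
            rw [← pow_add, show p - 1 + (n - p) = n - 1 by omega]
    · set r : ℝ := (2 : ℝ) / 5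
      have hr0 : (0 : ℝ) ≤ r := by norm_num [r]
      have hr1 : r ≤ 1 := by norm_num [r]
      letI := Fintype.ofFinite ↥P
      letI := Fintype.ofFinite ↥K
      have hsplit : weight p P = ∑ x : ↥P with x ∈ M, r ^ cost p (x : Perm α) +
          ∑ x : ↥P with x ∉ M, r ^ cost p (x : Perm α) := by
        rw [Finset.sum_filter_add_sum_filter_not]
        exact Finset.sum_congr (by ext; simp) fun x _ => rfl
      have hinK : ∑ x : ↥P with x ∈ M, r ^ cost p (x : Perm α) = weight p K := by
        refine Finset.sum_bij' (fun x hx => (⟨(x : Perm α), x, (Finset.mem_filter.1 hx).2, rfl⟩ : ↥K))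
          (fun y _ => (⟨(y : Perm α), Subgroup.map_subtype_le M y.2⟩ : ↥P)) (fun x _ => Finset.mem_univ _)
          (fun y _ => Finset.mem_filter.2 ⟨Finset.mem_univ _, ?_⟩) (fun x _ => rfl) (fun y _ => rfl)
          (fun x _ => rfl)
        obtain ⟨m, hm, hmy⟩ := y.2
        exact (Subtype.ext hmy : m = ⟨(y : Perm α), Subgroup.map_subtype_le M y.2⟩) ▸ hm
      have hout : ∀ x : ↥P, x ∉ M → cost p (x : Perm α) = (p - 1) * (n / p) := fun x hx => by
        rw [cost, mv, Nat.card_congr (Equiv.subtypeUnivEquiv (hmoves x hx)), hn]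
      have hcnt : ((Finset.univ.filter fun x : ↥P => x ∉ M).card : ℝ) = ((p - 1 : ℕ) : ℝ) * Nat.card K := by
        have h1 := Finset.card_filter_add_card_filter_not (s := (Finset.univ : Finset ↥P)) (fun x => x ∈ M)
        have h2 : (Finset.univ.filter fun x : ↥P => x ∈ M).card = Nat.card K := by
          rw [Nat.card_congr (M.equivMapOfInjective P.subtype P.subtype_injective).toEquiv.symm,
            Nat.card_eq_fintype_card, Fintype.card_subtype]
        rw [h2, Finset.card_univ, ← Nat.card_eq_fintype_card, hcardP] at h1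
        have : (Finset.univ.filter fun x : ↥P => x ∉ M).card = (p - 1) * Nat.card K := by
          rw [Nat.sub_mul, one_mul]; omega
        exact_mod_cast this
      -- the tail
      obtain ⟨m, hm⟩ : p ∣ n := by
        obtain ⟨x, hx⟩ : ∃ x : ↥P, x ∉ M := by
          by_contra h
          push Not at h
          exact hM.1 ((Subgroup.eq_top_iff' M).2 h)
        obtain ⟨k, hk⟩ := hP x
        have := dvd_mv (p := p) (k := k) (x := (x : Perm α)) (by rw [← Subgroup.coe_pow, hk, Subgroup.coe_one])
        rwa [mv, Nat.card_congr (Equiv.subtypeUnivEquiv (hmoves x hx)), hn] at this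
      have hm1 : 1 ≤ m := by
        rcases Nat.eq_zero_or_pos m with rfl | h
        · rw [mul_zero] at hm; omega
        · exact h
      have htail : (Nat.card K : ℝ) * r ^ ((p - 1) * m) ≤ r ^ (p - 1) := by
        have hL : ((Nat.card K : ℝ) * r ^ ((p - 1) * (m - 1))) ^ (p - 1) ≤ 1 := by
          have h1 : (Nat.card K : ℝ) ^ (p - 1) ≤ ((p : ℝ) ^ p) ^ (m - 1) := by
            rw [← pow_mul]
            have e1 : n - p = p * (m - 1) := by rw [hm, Nat.mul_sub, mul_one]
            rw [← e1]
            exact_mod_cast hK1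
          calc ((Nat.card K : ℝ) * r ^ ((p - 1) * (m - 1))) ^ (p - 1)
              = (Nat.card K : ℝ) ^ (p - 1) * (r ^ ((p - 1) * (p - 1))) ^ (m - 1) := by
                rw [mul_pow, ← pow_mul, ← pow_mul]; congr 2; ring
            _ ≤ ((p : ℝ) ^ p) ^ (m - 1) * (r ^ ((p - 1) * (p - 1))) ^ (m - 1) :=
                mul_le_mul_of_nonneg_right h1 (pow_nonneg (pow_nonneg hr0 _) _)
            _ = ((p : ℝ) ^ p * r ^ ((p - 1) * (p - 1))) ^ (m - 1) := (mul_pow _ _ _).symm
            _ ≤ 1 := pow_le_one₀ (by positivity) (pow_prime_bound h3)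
        have hle1 : (Nat.card K : ℝ) * r ^ ((p - 1) * (m - 1)) ≤ 1 :=
          (pow_le_one_iff_of_nonneg (by positivity) (by omega)).1 hL
        have e2 : (p - 1) * m = (p - 1) * (m - 1) + (p - 1) := by
          rw [← Nat.mul_succ]; congr 1; omega
        rw [e2, pow_add, ← mul_assoc]
        exact mul_le_of_le_one_left (pow_nonneg hr0 _) hle1
      have htot : ∑ x : ↥P with x ∉ M, r ^ cost p (x : Perm α) ≤ ((p - 1 : ℕ) : ℝ) * r ^ (p - 1) := by
        rw [Finset.sum_congr rfl (fun x hx => by rw [hout x (Finset.mem_filter.1 hx).2]),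
          Finset.sum_const, nsmul_eq_mul, hcnt, show n / p = m by rw [hm, Nat.mul_div_cancel_left _ hp.out.pos],
          mul_assoc]
        exact mul_le_mul_of_nonneg_left htail (Nat.cast_nonneg _)
      have hc1 : 1 ≤ 1 + r ^ (p - 1) := le_add_of_nonneg_right (pow_nonneg hr0 _)
      calc weight p P ≤ (1 + r ^ (p - 1)) ^ (n - p) + ((p - 1 : ℕ) : ℝ) * r ^ (p - 1) := by
            rw [hsplit, hinK]; exact add_le_add (hK2 h3) htot
        _ ≤ (1 + r ^ (p - 1)) ^ (n - p) * (1 + ((p - 1 : ℕ) : ℝ) * r ^ (p - 1)) := by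
            rw [mul_add, mul_one]
            exact add_le_add le_rfl (le_mul_of_one_le_left (by positivity) (one_le_pow₀ hc1))
        _ ≤ (1 + r ^ (p - 1)) ^ (n - p) * (1 + r ^ (p - 1)) ^ (p - 1) :=
            mul_le_mul_of_nonneg_left (one_add_mul_pow_le p _ (pow_nonneg hr0 _)) (by positivity)
        _ = (1 + r ^ (p - 1)) ^ (n - 1) := by rw [← pow_add]; congr 1; omega

end CfsgLib.PermClasses
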